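import Groth.Agent.LocH.DepthPrimes
import Groth.Agent.LocH.DepthMisc
import Groth.Agent.LocH.DepthStep
import Groth.Agent.LocH.CompareLE
import Groth.Agent.Catenary.Ring
import Groth.Agent.Catenary.DimFormula
import Groth.Prelude.Def_DualLC

/-!
The invariant `cutoff` along finite algebras.
-/

set_option autoImplicit false
set_option linter.style.haveILetI false

universe u

noncomputable section

namespace Groth.Agent.Cutoff

open CategoryTheory IsLocalRing Groth.Agent.LocH

section Kill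

variable {R : Type u} [CommRing R] [IsNoetherianRing R] (S : Submonoid R)

/-- Local cohomology vanishes after localisation iff every class is killed by the submonoid. -/
theorem subsingleton_localized_iff_forall (M : Type u) [AddCommGroup M] [Module R M] (I : Ideal R) (i : ℕ) :
    Subsingleton (LocCoh.H (I.map (algebraMap R (Localization S))) i (LocalizedModule S M)) ↔
      ∀ α : LocCoh.H I i M, ∃ s ∈ S, s • α = 0 := by
  let J := injectiveResolution (ModuleCat.of R M)
  rw [subsingleton_localized_iff S M J]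
  constructor
  · intro h α
    obtain ⟨z, rfl⟩ := cyclesToH_surjective J i α
    obtain ⟨s, hs⟩ := exists_smul_mem_boundary S J
      (h (floc S J i (cycleVal J i z)) (floc_mem S J (cycleVal_mem J i z))
        ((dloc_floc S J i (i + 1) _).trans ((congrArg _ (d_cycleVal J i z)).trans (map_zero _))))
    refine ⟨s, s.2, ?_⟩
    rw [← map_smul]
    exact (cyclesToH_eq_zero_iff_mem J i _).2 ((LocH.cycleVal_smul J i (s : R) z).symm ▸ hs)
  · intro h
    refine vanish_localizeRes_of_exists S J fun x hx hd => ?_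
    obtain ⟨z, rfl⟩ := exists_cycle J i x hx hd
    obtain ⟨s, hs, hs'⟩ := h (cyclesToH J i z)
    refine ⟨⟨s, hs⟩, ?_⟩
    rw [← LocH.cycleVal_smul]
    exact (cyclesToH_eq_zero_iff_mem J i _).1 (by rw [map_smul]; exact hs')

end Kill

variable {A B : Type u} [CommRing A] [CommRing B] [Algebra A B] [IsNoetherianRing A] [IsNoetherianRing B]
  [Module.Finite A B]

/-- Depth below a prime through the primes over it. -/
theorem le_depth_iff_forall_over (M : Type u) [AddCommGroup M] [Module B M] [Module A M] [IsScalarTower A B M]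
    [Module.Finite B M] (p : PrimeSpectrum A) (n : ℕ) :
    (n : ℕ∞) ≤ LocCoh.depth (Localization.AtPrime p.asIdeal) (LocalizedModule p.asIdeal.primeCompl M) ↔
      ∀ P : PrimeSpectrum B, P.asIdeal.comap (algebraMap A B) = p.asIdeal →
        (n : ℕ∞) ≤ LocCoh.depth (Localization.AtPrime P.asIdeal) (LocalizedModule P.asIdeal.primeCompl M) := by
  haveI : Module.Finite A M := Module.Finite.trans B M
  haveI : Algebra.IsIntegral A B := Algebra.IsIntegral.of_finite A B
  let pB := p.asIdeal.map (algebraMap A B)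
  have hA : (n : ℕ∞) ≤ LocCoh.depth (Localization.AtPrime p.asIdeal) (LocalizedModule p.asIdeal.primeCompl M) ↔
      ∀ i < n, ∀ α : LocCoh.H p.asIdeal i M, ∃ s ∈ p.asIdeal.primeCompl, s • α = 0 := by
    rw [LocCoh.depth, ← IsLocalization.AtPrime.map_eq_maximalIdeal p.asIdeal (Localization.AtPrime p.asIdeal),
      le_idealDepth_iff]
    exact forall₂_congr fun i _ => subsingleton_localized_iff_forall p.asIdeal.primeCompl M p.asIdeal i
  have hB : ∀ P : PrimeSpectrum B, P.asIdeal.comap (algebraMap A B) = p.asIdeal →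
      ((n : ℕ∞) ≤ LocCoh.depth (Localization.AtPrime P.asIdeal) (LocalizedModule P.asIdeal.primeCompl M) ↔
      ∀ i < n, ∀ α : LocCoh.H pB i M, ∃ b ∈ P.asIdeal.primeCompl, b • α = 0) := by
    intro P hP
    rw [LocCoh.depth, le_idealDepth_iff]
    refine forall₂_congr fun i _ => ?_
    rw [← subsingleton_localized_iff_forall P.asIdeal.primeCompl M pB i]
    refine subsingleton_iff_of_radical_eq ?_ _ i
    rw [(maximalIdeal.isMaximal (Localization.AtPrime P.asIdeal)).isPrime.radical]
    have hle : pB ≤ P.asIdeal := Ideal.map_le_iff_le_comap.2 hP.ge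
    refine le_antisymm ?_ ?_
    · rw [Ideal.radical_eq_sInf]
      refine le_sInf fun Q ⟨hQ, hQp⟩ => ?_
      haveI := hQp
      let c := Q.comap (algebraMap B (Localization.AtPrime P.asIdeal))
      have hc : c ≤ P.asIdeal := fun b hb => by
        by_contra hbP
        exact hQp.ne_top (Ideal.eq_top_of_isUnit_mem _ hb (IsLocalization.map_units _ (⟨b, hbP⟩ : P.asIdeal.primeCompl)))
      have hcp : c.comap (algebraMap A B) = p.asIdeal :=
        le_antisymm ((Ideal.comap_mono hc).trans hP.le)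
          (Ideal.map_le_iff_le_comap.1 (Ideal.map_le_iff_le_comap.1 hQ))
      have hcP : c = P.asIdeal := by
        by_contra hne
        obtain ⟨b, hbP, hbc⟩ := SetLike.exists_of_lt (lt_of_le_of_ne hc hne)
        exact (Ideal.comap_lt_comap_of_integral_mem_sdiff (R := A) hc ⟨hbP, hbc⟩
          (Algebra.IsIntegral.isIntegral b)).ne (hcp.trans hP.symm)
      rw [← IsLocalization.AtPrime.map_eq_maximalIdeal P.asIdeal (Localization.AtPrime P.asIdeal)]
      exact Ideal.map_le_iff_le_comap.2 hcP.ge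
    · refine (Ideal.radical_mono ?_).trans (maximalIdeal.isMaximal (Localization.AtPrime P.asIdeal)).isPrime.radical.le
      rw [← IsLocalization.AtPrime.map_eq_maximalIdeal P.asIdeal (Localization.AtPrime P.asIdeal)]
      exact Ideal.map_mono hle
  constructor
  · intro h P hP
    rw [hB P hP]
    intro i hi β
    obtain ⟨φ, hφ⟩ := exists_semilinearEquiv (R' := B) (I := p.asIdeal) i M
    obtain ⟨s, hs, hs'⟩ := (hA.1 h) i hi (φ β)
    refine ⟨algebraMap A B s, fun hm => hs (hP ▸ hm), φ.injective ?_⟩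
    rw [hφ, map_zero]
    exact hs'
  · intro h
    rw [hA]
    intro i hi α
    obtain ⟨φ, hφ⟩ := exists_semilinearEquiv (R' := B) (I := p.asIdeal) i M
    obtain ⟨β, rfl⟩ := φ.surjective α
    let K : Ideal B := LinearMap.ker (LinearMap.toSpanSingleton B _ β)
    by_contra hne
    push Not at hne
    have hdis : Disjoint (K : Set B) (Algebra.algebraMapSubmonoid B p.asIdeal.primeCompl : Set B) := by
      rw [Set.disjoint_left]
      rintro _ hK ⟨s, hs, rfl⟩
      exact hne s hs (by rw [← hφ, show algebraMap A B s • β = 0 from hK, map_zero])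
    obtain ⟨P, hP, hKP, hPdis⟩ := Ideal.exists_le_prime_disjoint K _ hdis
    obtain ⟨k, hk⟩ := isPowerTorsion pB i (ModuleCat.of B M) β
    have hpB : pB ≤ P := by
      refine hP.le_of_pow_le (n := k) fun b hb => hKP ?_
      exact hk b hb
    have hPp : P.comap (algebraMap A B) = p.asIdeal := le_antisymm (fun a ha => by
      by_contra hap
      exact Set.disjoint_left.1 hPdis ha ⟨a, hap, rfl⟩) (Ideal.map_le_iff_le_comap.1 hpB)
    obtain ⟨b, hb, hb'⟩ := (hB ⟨P, hP⟩ hPp).1 (h ⟨P, hP⟩ hPp) i hi β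
    exact hb (hKP hb')

/-- The height in the primes above a prime is the height in the quotient. -/
theorem height_Ici_eq {R : Type u} [CommRing R] {p q : PrimeSpectrum R} (h : p ≤ q) :
    Order.height (⟨q, h⟩ : Set.Ici p) = (q.asIdeal.map (Ideal.Quotient.mk p.asIdeal)).height := by
  haveI : (q.asIdeal.map (Ideal.Quotient.mk p.asIdeal)).IsPrime :=
    Ideal.map_isPrime_of_surjective Ideal.Quotient.mk_surjective (Ideal.mk_ker.trans_le h)
  rw [PrimeSpectrum.height_eq_orderHeight ⟨q.asIdeal.map (Ideal.Quotient.mk p.asIdeal), inferInstance⟩]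
  let e : PrimeSpectrum (R ⧸ p.asIdeal) ≃o Set.Ici p :=
    p.asIdeal.primeSpectrumQuotientOrderIsoZeroLocus.trans
      (OrderIso.setCongr _ _ (Set.ext fun x => by simp [PrimeSpectrum.mem_zeroLocus]))
  refine Eq.trans ?_ (Order.height_orderIso e ⟨_, inferInstance⟩)
  congr 1
  refine Subtype.ext (PrimeSpectrum.ext ?_)
  show q.asIdeal = (q.asIdeal.map (Ideal.Quotient.mk p.asIdeal)).comap (Ideal.Quotient.mk p.asIdeal)
  rw [Ideal.comap_map_quotientMk, sup_eq_right.2 h]

set_option maxHeartbeats 1000000 in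
/-- Lengths of chains of primes are the same above and below in a finite extension. -/
theorem height_eq_of_finite (hA : CAlg.IsUniversallyCatenary A) {P Q : PrimeSpectrum B} (h : P ≤ Q)
    {p q : PrimeSpectrum A} (hp : P.asIdeal.comap (algebraMap A B) = p.asIdeal)
    (hq : Q.asIdeal.comap (algebraMap A B) = q.asIdeal) (hpq : p ≤ q) :
    (Q.asIdeal.map (Ideal.Quotient.mk P.asIdeal)).height = (q.asIdeal.map (Ideal.Quotient.mk p.asIdeal)).height := by
  haveI : P.asIdeal.LiesOver p.asIdeal := ⟨hp.symm⟩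
  haveI : Module.Finite (A ⧸ p.asIdeal) (B ⧸ P.asIdeal) := Module.Finite.of_restrictScalars_finite A _ _
  haveI : FaithfulSMul (A ⧸ p.asIdeal) (B ⧸ P.asIdeal) := (faithfulSMul_iff_algebraMap_injective _ _).2 <|
    (injective_iff_map_eq_zero _).2 fun x hx => by
      obtain ⟨x, rfl⟩ := Ideal.Quotient.mk_surjective x
      exact Ideal.Quotient.eq_zero_iff_mem.2 ((Ideal.mem_of_liesOver P.asIdeal p.asIdeal x).2 (Ideal.Quotient.eq_zero_iff_mem.1 hx))
  let q' := q.asIdeal.map (Ideal.Quotient.mk p.asIdeal)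
  let Q' := Q.asIdeal.map (Ideal.Quotient.mk P.asIdeal)
  haveI : q'.IsPrime := Ideal.map_isPrime_of_surjective Ideal.Quotient.mk_surjective (Ideal.mk_ker.trans_le hpq)
  haveI : Q'.IsPrime := Ideal.map_isPrime_of_surjective Ideal.Quotient.mk_surjective (Ideal.mk_ker.trans_le h)
  haveI : Q'.LiesOver q' := ⟨by
    ext x
    obtain ⟨x, rfl⟩ := Ideal.Quotient.mk_surjective x
    show Ideal.Quotient.mk p.asIdeal x ∈ q' ↔ Ideal.Quotient.mk P.asIdeal (algebraMap A B x) ∈ Q'
    rw [← Ideal.mem_comap, ← Ideal.mem_comap (f := Ideal.Quotient.mk P.asIdeal), Ideal.comap_map_quotientMk,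
      Ideal.comap_map_quotientMk, sup_eq_right.2 hpq, sup_eq_right.2 h]
    exact (SetLike.ext_iff.1 hq x).symm⟩
  obtain ⟨a, b, c, d, ha, hb, hc, hd, habcd⟩ := Catenary.exists_dimension_formula (A ⧸ p.asIdeal)
    (Catenary.isUniversallyCatenary_of_finiteType (B := A ⧸ p.asIdeal) hA) (B ⧸ P.asIdeal) q' Q'
  haveI : Module.Finite ((A ⧸ p.asIdeal) ⧸ q') ((B ⧸ P.asIdeal) ⧸ Q') :=
    Module.Finite.of_restrictScalars_finite (A ⧸ p.asIdeal) _ _
  haveI : FaithfulSMul ((A ⧸ p.asIdeal) ⧸ q') ((B ⧸ P.asIdeal) ⧸ Q') := (faithfulSMul_iff_algebraMap_injective _ _).2 <|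
    (injective_iff_map_eq_zero _).2 fun x hx => by
      obtain ⟨x, rfl⟩ := Ideal.Quotient.mk_surjective x
      exact Ideal.Quotient.eq_zero_iff_mem.2 ((Ideal.mem_of_liesOver Q' q' x).2 (Ideal.Quotient.eq_zero_iff_mem.1 hx))
  haveI : Algebra.IsAlgebraic (A ⧸ p.asIdeal) (B ⧸ P.asIdeal) :=
    haveI := Algebra.IsIntegral.of_finite (A ⧸ p.asIdeal) (B ⧸ P.asIdeal)
    Algebra.IsIntegral.isAlgebraic
  haveI : Algebra.IsAlgebraic ((A ⧸ p.asIdeal) ⧸ q') ((B ⧸ P.asIdeal) ⧸ Q') :=
    haveI := Algebra.IsIntegral.of_finite ((A ⧸ p.asIdeal) ⧸ q') ((B ⧸ P.asIdeal) ⧸ Q')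
    Algebra.IsIntegral.isAlgebraic
  have hb0 : Algebra.trdeg ((A ⧸ p.asIdeal) ⧸ q') ((B ⧸ P.asIdeal) ⧸ Q') = 0 :=
    trdeg_eq_zero (R := (A ⧸ p.asIdeal) ⧸ q') (A := (B ⧸ P.asIdeal) ⧸ Q')
  have hd0 : Algebra.trdeg (A ⧸ p.asIdeal) (B ⧸ P.asIdeal) = 0 :=
    trdeg_eq_zero (R := A ⧸ p.asIdeal) (A := B ⧸ P.asIdeal)
  rw [hb0] at hb
  rw [hd0] at hd
  have : a = c := by
    have h1 : b = 0 := by exact_mod_cast hb.symm
    have h2 : d = 0 := by exact_mod_cast hd.symm
    omega
  rw [ha, hc, this]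

/-- The invariant is unchanged along finite algebras. -/
theorem cutoff_eq (hA : CAlg.IsUniversallyCatenary A) (I : Ideal A) (M : Type u) [AddCommGroup M] [Module B M]
    [Module A M] [IsScalarTower A B M] [Module.Finite B M] :
    Dual2.cutoff B (I.map (algebraMap A B)) M = Dual2.cutoff A I M := by
  haveI : Algebra.IsIntegral A B := Algebra.IsIntegral.of_finite A B
  refine le_antisymm ?_ ?_
  · simp only [Dual2.cutoff, le_iInf_iff]
    intro p q hpq hIp hIq
    set D := LocCoh.depth (Localization.AtPrime p.asIdeal) (LocalizedModule p.asIdeal.primeCompl M) with hD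
    rcases eq_or_ne D ⊤ with hD' | hD'
    · rw [hD', top_add]; exact le_top
    obtain ⟨n, hn⟩ := ENat.ne_top_iff_exists.1 hD'
    have hno : ¬ ((n + 1 : ℕ) : ℕ∞) ≤ D := by
      rw [← hn]; exact_mod_cast (by omega : ¬ n + 1 ≤ n)
    rw [hD, le_depth_iff_forall_over (A := A) (B := B) M p (n + 1)] at hno
    push Not at hno
    obtain ⟨P, hP, hPd⟩ := hno
    obtain ⟨Q, hPQ, hQp, hQ⟩ := Ideal.exists_ideal_over_prime_of_isIntegral q.asIdeal P.asIdeal (hP.le.trans hpq)
    let Q₀ : PrimeSpectrum B := ⟨Q, hQp⟩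
    refine (iInf_le_of_le P (iInf_le_of_le Q₀ (iInf_le_of_le hPQ (iInf_le_of_le
      (fun hle => hIp (hP ▸ Ideal.map_le_iff_le_comap.1 hle)) (iInf_le_of_le
      (Ideal.map_le_iff_le_comap.2 (hQ.symm ▸ hIq)) le_rfl))))).trans ?_
    rw [height_Ici_eq, height_Ici_eq, height_eq_of_finite hA (Q := Q₀) hPQ hP hQ hpq]
    refine add_le_add_left ?_ _
    rw [← hn]
    rw [Nat.cast_add, Nat.cast_one] at hPd
    exact (ENat.lt_add_one_iff (ENat.coe_ne_top n)).1 hPd
  · simp only [Dual2.cutoff, le_iInf_iff]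
    intro P Q hPQ hIP hIQ
    let p : PrimeSpectrum A := PrimeSpectrum.comap (algebraMap A B) P
    let q : PrimeSpectrum A := PrimeSpectrum.comap (algebraMap A B) Q
    have hpq : p ≤ q := Ideal.comap_mono hPQ
    refine (iInf_le_of_le p (iInf_le_of_le q (iInf_le_of_le hpq (iInf_le_of_le
      (fun hle => hIP (Ideal.map_le_iff_le_comap.2 hle)) (iInf_le_of_le
      (Ideal.map_le_iff_le_comap.1 hIQ) le_rfl))))).trans ?_
    rw [height_Ici_eq, height_Ici_eq, height_eq_of_finite hA (p := p) (q := q) hPQ rfl rfl hpq]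
    refine add_le_add_left ?_ _
    refine ENat.forall_natCast_le_iff_le.1 fun n hn => ?_
    exact (le_depth_iff_forall_over (A := A) (B := B) M p n).1 hn P rfl

end Groth.Agent.Cutoff
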